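import Mathlib
import Groth.Prelude
import Groth.Agent.H62.RR_LINE
import Groth.Agent.H87.RR_A1P1

set_option autoImplicit false
universe u
open CategoryTheory CategoryTheory.Limits AlgebraicGeometry
open REq

namespace Groth.Agent.H65.RR

/-- Core of S18571/S18572: in a retract `U ⇄ V` of an open of affine space, any two `K`-points of `U`
are directly R-linked in `U`. -/
theorem elemLink_of_retract {k : Type u} [Field k] {X : Scheme.{u}}
    (f : X ⟶ Spec (CommRingCat.of k)) (U : X.Opens) (n : ℕ)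
    (V : (Spec (CommRingCat.of (MvPolynomial (Fin n) k))).Opens)
    (a : (U : Scheme.{u}) ⟶ (V : Scheme.{u})) (b : (V : Scheme.{u}) ⟶ (U : Scheme.{u}))
    (hab : a ≫ b = 𝟙 (U : Scheme.{u}))
    (ha : a ≫ V.ι ≫ Spec.map (CommRingCat.ofHom (algebraMap k (MvPolynomial (Fin n) k))) = U.ι ≫ f)
    (hb : b ≫ U.ι ≫ f = V.ι ≫ Spec.map (CommRingCat.ofHom (algebraMap k (MvPolynomial (Fin n) k))))
    (K : Type u) [Field K] [Algebra k K] (A B : REq.Pts (U.ι ≫ f) K) :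
    REq.ElemLink (U.ι ≫ f) K A B := by
  have hα : (A.1 ≫ a) ≫ V.ι ≫ Spec.map (CommRingCat.ofHom (algebraMap k (MvPolynomial (Fin n) k))) =
      Spec.map (CommRingCat.ofHom (algebraMap k K)) := by
    rw [Category.assoc, ha]
    exact A.2
  have hβ : (B.1 ≫ a) ≫ V.ι ≫ Spec.map (CommRingCat.ofHom (algebraMap k (MvPolynomial (Fin n) k))) =
      Spec.map (CommRingCat.ofHom (algebraMap k K)) := by
    rw [Category.assoc, ha]
    exact B.2
  obtain ⟨W, h, a', b', h1, h2, h3, h4, h5⟩ :=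
    Groth.Agent.H62.RR_LINE.exists_line n V (A.1 ≫ a) (B.1 ≫ a) hα hβ
  obtain ⟨j, hj, hjs⟩ := Groth.Agent.H87.RR_A1P1.exists_openImmersion_A1_P1 K
  haveI := hj
  refine ⟨j ''ᵁ W, (j.isoImage W).inv ≫ h ≫ b, a' ≫ (j.isoImage W).hom, b' ≫ (j.isoImage W).hom,
    ?_, ?_, ?_, ?_, ?_⟩
  · -- structure compatibility
    have e1 : (j.isoImage W).inv ≫ W.ι ≫ j = (j ''ᵁ W).ι := Scheme.Hom.isoImage_inv_ι j W
    calc ((j.isoImage W).inv ≫ h ≫ b) ≫ U.ι ≫ f
        = (j.isoImage W).inv ≫ h ≫ (b ≫ U.ι ≫ f) := by simp only [Category.assoc]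
      _ = (j.isoImage W).inv ≫ (h ≫ V.ι ≫
            Spec.map (CommRingCat.ofHom (algebraMap k (MvPolynomial (Fin n) k)))) := by rw [hb]
      _ = (j.isoImage W).inv ≫ W.ι ≫ (j ≫ P1K.toSpec K) ≫ specMap k K := by rw [h1, hjs]
      _ = ((j.isoImage W).inv ≫ W.ι ≫ j) ≫ P1K.toSpec K ≫ specMap k K := by
          simp only [Category.assoc]
      _ = (j ''ᵁ W).ι ≫ P1K.toSpec K ≫ specMap k K := by rw [e1]
  · have e2 : (j.isoImage W).hom ≫ (j ''ᵁ W).ι = W.ι ≫ j := Scheme.Hom.isoImage_hom_ι j W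
    calc (a' ≫ (j.isoImage W).hom) ≫ (j ''ᵁ W).ι ≫ P1K.toSpec K
        = a' ≫ ((j.isoImage W).hom ≫ (j ''ᵁ W).ι) ≫ P1K.toSpec K := by simp only [Category.assoc]
      _ = a' ≫ W.ι ≫ (j ≫ P1K.toSpec K) := by rw [e2]; simp only [Category.assoc]
      _ = 𝟙 _ := by rw [hjs, h2]
  · have e2 : (j.isoImage W).hom ≫ (j ''ᵁ W).ι = W.ι ≫ j := Scheme.Hom.isoImage_hom_ι j W
    calc (b' ≫ (j.isoImage W).hom) ≫ (j ''ᵁ W).ι ≫ P1K.toSpec K
        = b' ≫ ((j.isoImage W).hom ≫ (j ''ᵁ W).ι) ≫ P1K.toSpec K := by simp only [Category.assoc]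
      _ = b' ≫ W.ι ≫ (j ≫ P1K.toSpec K) := by rw [e2]; simp only [Category.assoc]
      _ = 𝟙 _ := by rw [hjs, h3]
  · calc (a' ≫ (j.isoImage W).hom) ≫ (j.isoImage W).inv ≫ h ≫ b
        = a' ≫ ((j.isoImage W).hom ≫ (j.isoImage W).inv) ≫ h ≫ b := by simp only [Category.assoc]
      _ = (a' ≫ h) ≫ b := by rw [Iso.hom_inv_id, Category.id_comp, Category.assoc]
      _ = A.1 := by rw [h4, Category.assoc, hab, Category.comp_id]
  · calc (b' ≫ (j.isoImage W).hom) ≫ (j.isoImage W).inv ≫ h ≫ b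
        = b' ≫ ((j.isoImage W).hom ≫ (j.isoImage W).inv) ≫ h ≫ b := by simp only [Category.assoc]
      _ = (b' ≫ h) ≫ b := by rw [Iso.hom_inv_id, Category.id_comp, Category.assoc]
      _ = B.1 := by rw [h5, Category.assoc, hab, Category.comp_id]

end Groth.Agent.H65.RR
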